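import Cfsg.Agent.SuzukiType.ThreeU43.Main
import Cfsg.Agent.SuzukiType.Local.Seven
import Cfsg.Agent.SuzukiType.Unique.Iso
import Cfsg.Agent.SuzPres.ElevenLocal.Normalizer

/-!
An element of order three with quaternion commutator commutes with an element of order seven, and so corresponds
to the element of order three of the six letter subgroup of the presented group.
-/

set_option autoImplicit false
set_option maxRecDepth 100000
set_option linter.unusedSectionVars false
set_option linter.style.haveILetI false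

namespace Cfsg.Lib.SuzukiType

open Subgroup
open Cfsg.Lib.SuzPres.ThreeCent (yv)

universe u

variable {G : Type u} [Group G] [Finite G] {z : G}

theorem seven_in_cent {x : G} (h : 7 ∣ Nat.card ↥(centralizer ({x} : Set G))) :
    ∃ w : G, orderOf w = 7 ∧ Commute x w := by
  haveI : Fact (Nat.Prime 7) := ⟨by norm_num⟩
  obtain ⟨w, hw⟩ := exists_prime_orderOf_dvd_card' 7 h
  exact ⟨w, by rw [Subgroup.orderOf_coe, hw], (mem_centralizer_singleton_iff.mp w.2 : Commute (w : G) x).symm⟩

namespace ThreeU43.Three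

theorem seven_dvd (T : Three z) : 7 ∣ Nat.card ↥(centralizer ({T.y} : Set G)) := by
  obtain ⟨f⟩ := T.iso_K
  refine dvd_trans ?_ (Subgroup.card_quotient_dvd_card T.Ym)
  rw [show Nat.card (↥T.M ⧸ T.Ym) = Nat.card T.Hb from rfl, Nat.card_congr f.toEquiv,
    Cfsg.Lib.UFourThreeCover.card_psu]
  norm_num

end ThreeU43.Three

/-- Subgroups of order three centralizing elements of order seven are conjugate. -/
theorem Four.conj_three_seven (d : Four z) {x y : G} (hx : orderOf x = 3) (hy : orderOf y = 3)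
    (hx7 : 7 ∣ Nat.card ↥(centralizer ({x} : Set G))) (hy7 : 7 ∣ Nat.card ↥(centralizer ({y} : Set G))) :
    ∃ g : G, (zpowers x).map (MulAut.conj g).toMonoidHom = zpowers y := by
  haveI : Fact (Nat.Prime 7) := ⟨by norm_num⟩
  haveI : Fact (Nat.Prime 3) := ⟨Nat.prime_three⟩
  obtain ⟨w, hw, hxw⟩ := seven_in_cent hx7
  obtain ⟨v, hv, hyv⟩ := seven_in_cent hy7
  let P : Sylow 7 G := Sylow.ofCard (zpowers w) (by rw [d.fact_seven, pow_one, Nat.card_zpowers, hw])
  let R : Sylow 7 G := Sylow.ofCard (zpowers v) (by rw [d.fact_seven, pow_one, Nat.card_zpowers, hv])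
  obtain ⟨g, hg⟩ := MulAction.exists_smul_eq G P R
  have hgv : (zpowers w).map (MulAut.conj g).toMonoidHom = zpowers v := by
    have := congrArg (fun S : Sylow 7 G => (S : Subgroup G)) hg
    exact this
  set C := centralizer ((zpowers v : Subgroup G) : Set G) with hC
  have hx' : g * x * g⁻¹ ∈ C := by
    rw [hC, ← hgv, mem_centralizer_iff]
    rintro _ ⟨a, ha, rfl⟩
    obtain ⟨i, rfl⟩ := mem_zpowers_iff.mp ha
    show g * w ^ i * g⁻¹ * (g * x * g⁻¹) = g * x * g⁻¹ * (g * w ^ i * g⁻¹)
    calc g * w ^ i * g⁻¹ * (g * x * g⁻¹) = g * (w ^ i * x) * g⁻¹ := by group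
      _ = g * (x * w ^ i) * g⁻¹ := by rw [(hxw.symm.zpow_left i).eq]
      _ = g * x * g⁻¹ * (g * w ^ i * g⁻¹) := by group
  have hy' : y ∈ C := by
    rw [hC, mem_centralizer_iff]
    rintro a ha
    obtain ⟨i, rfl⟩ := mem_zpowers_iff.mp ha
    exact (hyv.symm.zpow_left i).eq
  obtain ⟨eC⟩ := (d.seven R).1
  have hCcard : Nat.card ↥C = 84 := by
    rw [show Nat.card ↥C = Nat.card ↥(centralizer ((R : Subgroup G) : Set G)) from rfl, Nat.card_congr eC.toEquiv,
      Nat.card_prod, Nat.card_congr Multiplicative.toAdd, Nat.card_zmod, nat_card_alternatingGroup, Nat.card_fin]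
    rfl
  have hfac : (Nat.card ↥C).factorization 3 = 1 :=
    factorization_one Nat.prime_three (by rw [hCcard]; norm_num) (by rw [hCcard]; norm_num)
      (by rw [hCcard]; norm_num)
  let a : ↥C := ⟨g * x * g⁻¹, hx'⟩
  let b : ↥C := ⟨y, hy'⟩
  have ha : orderOf a = 3 := by
    rw [← Subgroup.orderOf_coe]
    exact ((MulAut.conj g).orderOf_eq x).trans hx
  have hb : orderOf b = 3 := by rw [← Subgroup.orderOf_coe]; exact hy
  let A : Sylow 3 ↥C := Sylow.ofCard (zpowers a) (by rw [hfac, pow_one, Nat.card_zpowers, ha])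
  let B : Sylow 3 ↥C := Sylow.ofCard (zpowers b) (by rw [hfac, pow_one, Nat.card_zpowers, hb])
  obtain ⟨k, hk⟩ := MulAction.exists_smul_eq ↥C A B
  have hkb : (zpowers a).map (MulAut.conj k).toMonoidHom = zpowers b :=
    congrArg (fun S : Sylow 3 ↥C => (S : Subgroup ↥C)) hk
  refine ⟨(k : G) * g, ?_⟩
  have h := congrArg (Subgroup.map C.subtype) hkb
  rw [MonoidHom.map_zpowers, MonoidHom.map_zpowers, MonoidHom.map_zpowers] at h
  rw [MonoidHom.map_zpowers]
  have he : C.subtype ((MulAut.conj k).toMonoidHom a) = (MulAut.conj ((k : G) * g)).toMonoidHom x := by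
    show (k : G) * (g * x * g⁻¹) * (k : G)⁻¹ = (k : G) * g * x * ((k : G) * g)⁻¹
    group
  rw [he] at h
  exact h

/-- Transport of the quotient of a normalizer along an isomorphism. -/
theorem transport_quotient {H : Type*} [Group H] {M : Type*} [Group M] {K : Type*} [Group K] (F : H ≃* K) (A : Subgroup H)
    (hn : (A.subgroupOf (normalizer (A : Set H))).Normal)
    (q : ↥(normalizer (A : Set H)) ⧸ A.subgroupOf (normalizer (A : Set H)) ≃* M) :
    ∃ _ : ((A.map F.toMonoidHom).subgroupOf (normalizer ((A.map F.toMonoidHom : Subgroup K) : Set K))).Normal,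
      Nonempty (↥(normalizer ((A.map F.toMonoidHom : Subgroup K) : Set K)) ⧸
        (A.map F.toMonoidHom).subgroupOf (normalizer ((A.map F.toMonoidHom : Subgroup K) : Set K)) ≃* M) := by
  have hmap : (normalizer (A : Set H)).map F.toMonoidHom =
      normalizer ((A.map F.toMonoidHom : Subgroup K) : Set K) := map_equiv_normalizer_eq A F
  haveI hn' : ((A.map F.toMonoidHom).subgroupOf (normalizer ((A.map F.toMonoidHom : Subgroup K) : Set K))).Normal :=
    normal_in_normalizer
  let e : ↥(normalizer (A : Set H)) ≃* ↥(normalizer ((A.map F.toMonoidHom : Subgroup K) : Set K)) :=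
    ((normalizer (A : Set H)).equivMapOfInjective F.toMonoidHom F.injective).trans (MulEquiv.subgroupCongr hmap)
  refine ⟨hn', ⟨(QuotientGroup.congr (A.subgroupOf (normalizer (A : Set H)))
    ((A.map F.toMonoidHom).subgroupOf (normalizer ((A.map F.toMonoidHom : Subgroup K) : Set K))) e ?_).symm.trans q⟩⟩
  ext w
  obtain ⟨v, rfl⟩ := e.surjective w
  constructor
  · rintro ⟨v', hv', e'⟩
    rw [show v = v' from (e.injective e').symm]
    exact ⟨v', hv', rfl⟩
  · rintro ⟨a, ha, e'⟩
    refine ⟨v, ?_, rfl⟩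
    show (v : H) ∈ A
    rwa [← F.injective (show F a = F (v : H) from e')]

/-- An isomorphism with the presented group carrying the given subgroup of order three to the standard one. -/
theorem Ctx.exists_iso_three (c : Ctx z) {x : G} (hx : orderOf x = 3)
    (hx7 : 7 ∣ Nat.card ↥(centralizer ({x} : Set G))) :
    ∃ f : G ≃* Cfsg.Spor.Suz, (zpowers x).map f.toMonoidHom = zpowers yv := by
  obtain ⟨e⟩ := c.iso_suz
  obtain ⟨d⟩ := c.exists_four
  haveI : Finite Cfsg.Spor.Suz := Finite.of_equiv G e.toEquiv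
  set y := e.symm yv with hy
  have hy3 : orderOf y = 3 := (e.symm.orderOf_eq yv).trans Cfsg.Lib.SuzPres.ThreeCent.orderOf_yv
  have hy7 : 7 ∣ Nat.card ↥(centralizer ({y} : Set G)) := by
    have hm : (centralizer ({y} : Set G)).map e.toMonoidHom = centralizer ({yv} : Set Cfsg.Spor.Suz) := by
      ext w
      rw [mem_map_equiv, mem_centralizer_singleton_iff, mem_centralizer_singleton_iff, hy, ← map_mul, ← map_mul,
        e.symm.injective.eq_iff]
    rw [← Subgroup.card_map_of_injective (f := e.toMonoidHom) e.injective, hm,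
      show centralizer ({yv} : Set Cfsg.Spor.Suz) = Cfsg.Lib.SuzPres.ThreeCent.cy from rfl,
      Cfsg.Lib.SuzPres.ThreeCent.card_cy.1]
    norm_num
  obtain ⟨g, hg⟩ := d.conj_three_seven hx hy3 hx7 hy7
  refine ⟨(MulAut.conj g).trans e, ?_⟩
  rw [show ((MulAut.conj g).trans e).toMonoidHom = e.toMonoidHom.comp (MulAut.conj g).toMonoidHom from rfl,
    ← Subgroup.map_map, hg, MonoidHom.map_zpowers]
  congr 1
  exact e.apply_symm_apply yv

/-- The normalizer of the subgroup of order three, the elementary abelian subgroup of order 243 and its normalizer. -/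
theorem Ctx.eleven (c : Ctx z) {x : G} (hx : orderOf x = 3)
    (hx7 : 7 ∣ Nat.card ↥(centralizer ({x} : Set G))) (N : Subgroup G) (hN : N = normalizer (zpowers x : Set G))
    (P : Sylow 3 ↥N) :
    ¬ 3 ∣ ((P : Subgroup ↥N).map N.subtype).index ∧
      ∃ A : Subgroup G, A ≤ (P : Subgroup ↥N).map N.subtype ∧ Cfsg.IsElementaryAbelian 3 A ∧ Nat.card A = 3 ^ 5 ∧
        centralizer (A : Set G) = A ∧ ∃ _ : (A.subgroupOf (normalizer (A : Set G))).Normal,
          Cfsg.Spor.IsoM11 (↥(normalizer (A : Set G)) ⧸ A.subgroupOf (normalizer (A : Set G))) := by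
  obtain ⟨f, hf⟩ := c.exists_iso_three hx hx7
  haveI : Finite Cfsg.Spor.Suz := Finite.of_equiv G f.toEquiv
  haveI : Fact (Nat.Prime 3) := ⟨Nat.prime_three⟩
  have hNf : N.map f.toMonoidHom = normalizer (zpowers yv : Set Cfsg.Spor.Suz) := by
    rw [hN, map_equiv_normalizer_eq, hf]
  have hNc : Nat.card ↥N = 19595520 := by
    rw [← Subgroup.card_map_of_injective (f := f.toMonoidHom) f.injective, hNf,
      Cfsg.Lib.SuzPres.ThreeCent.card_normalizer]
  have hGc : Nat.card G = 448345497600 := (Nat.card_congr f.toEquiv).trans Cfsg.Lib.SuzPres.card_suz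
  constructor
  · rw [Subgroup.index_map_of_injective _ (Subgroup.subtype_injective _), Subgroup.range_subtype]
    intro h
    have hidx : N.index = 22880 := by
      have h := Subgroup.card_mul_index N
      rw [hNc, hGc] at h
      omega
    rcases (Nat.Prime.dvd_mul Nat.prime_three).mp h with h | h
    · exact P.not_dvd_index h
    · rw [hidx] at h
      norm_num at h
  set A0 := (Cfsg.Lib.SuzPres.ElevenLocal.A).map f.symm.toMonoidHom with hA0
  have hAN : A0 ≤ N := by
    rintro _ ⟨a, ha, rfl⟩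
    have hm : a ∈ N.map f.toMonoidHom := by
      rw [hNf, Cfsg.Lib.SuzPres.ElevenLocal.normalizer_yv_le]
      exact Cfsg.Lib.SuzPres.ElevenLocal.A_le_sixU ha
    obtain ⟨b, hb, rfl⟩ := hm
    show f.symm (f b) ∈ N
    rwa [f.symm_apply_apply]
  have hAc : Nat.card ↥A0 = 243 := by
    rw [hA0, Subgroup.card_map_of_injective f.symm.injective, Cfsg.Lib.SuzPres.ElevenLocal.card_A]
  have hp : IsPGroup 3 ↥(A0.subgroupOf N) :=
    (IsPGroup.of_card (n := 5) (by rw [hAc]; norm_num)).of_equiv (subgroupOfEquivOfLe hAN).symm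
  obtain ⟨R, hR⟩ := hp.exists_le_sylow
  obtain ⟨g, hg⟩ := MulAction.exists_smul_eq ↥N R P
  set F := f.symm.trans (MulAut.conj (g : G)) with hF
  refine ⟨(Cfsg.Lib.SuzPres.ElevenLocal.A).map F.toMonoidHom, ?_, ?_, ?_, ?_, ?_⟩
  · rintro _ ⟨a, ha, rfl⟩
    have ha' : f.symm a ∈ A0 := mem_map_of_mem _ ha
    refine ⟨MulAut.conj g ⟨f.symm a, hAN ha'⟩, ?_, rfl⟩
    rw [← hg]
    exact ⟨_, hR (show (⟨f.symm a, hAN ha'⟩ : ↥N) ∈ A0.subgroupOf N from ha'), rfl⟩
  · obtain ⟨hc, h3⟩ := Cfsg.Lib.SuzPres.ElevenLocal.elementary_A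
    refine ⟨⟨⟨?_⟩⟩, ?_⟩
    · rintro ⟨_, a, ha, rfl⟩ ⟨_, b, hb, rfl⟩
      exact Subtype.ext (by
        show F a * F b = F b * F a
        rw [← map_mul, ← map_mul, (Cfsg.Lib.SuzPres.ElevenLocal.comm_A ha hb).eq])
    · rintro _ ⟨a, ha, rfl⟩
      show F a ^ 3 = 1
      rw [← map_pow, h3 a ha, map_one]
  · rw [Subgroup.card_map_of_injective F.injective, Cfsg.Lib.SuzPres.ElevenLocal.card_A]
    norm_num
  · have hcl : (centralizer (Cfsg.Lib.SuzPres.ElevenLocal.A : Set Cfsg.Spor.Suz)).map F.toMonoidHom =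
        centralizer (((Cfsg.Lib.SuzPres.ElevenLocal.A).map F.toMonoidHom : Subgroup G) : Set G) := by
      ext w
      rw [mem_map_equiv, mem_centralizer_iff, mem_centralizer_iff]
      constructor
      · rintro h _ ⟨a, ha, rfl⟩
        show F a * w = w * F a
        have := congrArg F (h a ha)
        rwa [map_mul, map_mul, F.apply_symm_apply] at this
      · intro h a ha
        refine F.injective ?_
        rw [map_mul, map_mul, F.apply_symm_apply]
        exact h _ ⟨a, ha, rfl⟩
    rw [← hcl, Cfsg.Lib.SuzPres.ElevenLocal.centralizer_A]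
  · obtain ⟨hn, ⟨q⟩⟩ := Cfsg.Lib.SuzPres.ElevenLocal.quotient_M11
    exact transport_quotient F _ hn q

end Cfsg.Lib.SuzukiType
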